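import Mathlib

/-! # S3540 / S3577 (TEAM HT-E), A8: arithmetic (helper183) -/

set_option autoImplicit false

namespace Cfsg.Agent.H183.HT

open Finset

/-- `Q ≡ 1 mod 4`: the 2-part of `Q ^ (2 ^ b) - 1` -/
theorem exists_odd {Q : ℕ} (hQ : 4 ∣ Q - 1) (hQ1 : 1 < Q) (b : ℕ) :
    ∃ o, Odd o ∧ Q ^ (2 ^ b) - 1 = (Q - 1) * 2 ^ b * o := by
  induction b with
  | zero => exact ⟨1, odd_one, by simp⟩
  | succ b ih =>
    obtain ⟨o, ho, h⟩ := ih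
    obtain ⟨j, hj⟩ := hQ
    have h4 : 4 ∣ Q ^ (2 ^ b) - 1 := by
      rw [h, hj]
      exact ⟨j * 2 ^ b * o, by ring⟩
    obtain ⟨i, hi⟩ := h4
    have hpos : 1 ≤ Q ^ (2 ^ b) := Nat.one_le_pow _ _ (by omega)
    have hq : Q ^ (2 ^ b) = 4 * i + 1 := by omega
    refine ⟨o * (2 * i + 1), ho.mul ⟨i, rfl⟩, ?_⟩
    have h1 : Q ^ (2 ^ (b + 1)) = Q ^ (2 ^ b) * Q ^ (2 ^ b) := by rw [← pow_add, pow_succ, mul_two]
    have h2 : Q ^ (2 ^ (b + 1)) - 1 = (Q ^ (2 ^ b) - 1) * (Q ^ (2 ^ b) + 1) := by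
      rw [h1]
      obtain ⟨c, hc⟩ : ∃ c, Q ^ (2 ^ b) = c + 1 := ⟨Q ^ (2 ^ b) - 1, by omega⟩
      rw [hc, Nat.add_sub_cancel]
      apply Nat.sub_eq_of_eq_add
      ring
    rw [h2, h, hq, pow_succ]
    ring

/-- odd factors can be removed -/
theorem dvd_of_odd {k o x : ℕ} (ho : Odd o) (h : 2 ^ k ∣ o * x) : 2 ^ k ∣ x :=
  (Nat.Coprime.pow_left k (Nat.coprime_two_left.2 ho)).dvd_of_dvd_mul_left h

theorem odd_prod {s : Finset ℕ} (f : ℕ → ℕ) (h : ∀ i ∈ s, Odd (f i)) : Odd (∏ i ∈ s, f i) := by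
  induction s using Finset.cons_induction with
  | empty => simp
  | cons a s ha ih =>
    rw [Finset.prod_cons]
    exact (h a (Finset.mem_cons_self a s)).mul (ih fun i hi => h i (Finset.mem_cons_of_mem hi))

theorem odd_two_pow {i : ℕ} (hi : i ≠ 0) : Odd (2 ^ i + 1) :=
  ((Nat.even_pow.2 ⟨even_two, hi⟩).add_one)

theorem le_prod (a : ℕ) : (∏ i ∈ range a, (2 ^ i + 1)) ^ 2 ≤ 2 ^ (a * (a + 1)) := by
  induction a with
  | zero => simp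
  | succ a ih =>
    rw [prod_range_succ, mul_pow]
    have h1 : 2 ^ a + 1 ≤ 2 ^ (a + 1) := by
      have : 1 ≤ 2 ^ a := Nat.one_le_two_pow
      rw [pow_succ]
      omega
    have h2 : (2 ^ a + 1) ^ 2 ≤ (2 ^ (a + 1)) ^ 2 := Nat.pow_le_pow_left h1 2
    refine (Nat.mul_le_mul ih h2).trans ?_
    rw [← pow_mul, ← pow_add]
    apply le_of_eq
    congr 1
    ring

theorem le_prod' (a : ℕ) (ha : 1 ≤ a) : (∏ i ∈ Icc 2 a, (2 ^ i + 1)) ^ 2 * 2 ^ 6 ≤ 2 ^ ((a + 1) * (a + 2)) := by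
  induction a, ha using Nat.le_induction with
  | base => simp
  | succ a ha ih =>
    rw [prod_Icc_succ_top (by omega), mul_pow]
    have h1 : 2 ^ (a + 1) + 1 ≤ 2 ^ (a + 2) := by
      have : 1 ≤ 2 ^ (a + 1) := Nat.one_le_two_pow
      rw [pow_succ 2 (a + 1)]
      omega
    have h2 : (2 ^ (a + 1) + 1) ^ 2 ≤ (2 ^ (a + 2)) ^ 2 := Nat.pow_le_pow_left h1 2
    calc (∏ i ∈ Icc 2 a, (2 ^ i + 1)) ^ 2 * (2 ^ (a + 1) + 1) ^ 2 * 2 ^ 6
        = ((∏ i ∈ Icc 2 a, (2 ^ i + 1)) ^ 2 * 2 ^ 6) * (2 ^ (a + 1) + 1) ^ 2 := by ring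
      _ ≤ 2 ^ ((a + 1) * (a + 2)) * (2 ^ (a + 2)) ^ 2 := Nat.mul_le_mul ih h2
      _ = 2 ^ ((a + 1 + 1) * (a + 1 + 2)) := by
        rw [← pow_mul, ← pow_add]
        congr 1
        ring

theorem plus_two : ∀ Q < 34, ∀ k < 25, ¬ (1 < Q ∧ 32 * k ∣ 24 * (Q - 1) ∧ 32 * k ∣ Q ^ 4 - 1 ∧
    Q ^ 4 ≤ 2 * (32 * k) ^ 2) := by decide +kernel

theorem minus_three : ∀ j < 8, ∀ k < 316, ¬ (0 < j ∧ 128 * k ∣ 180 * (32 * j) ∧
    128 * k ∣ (32 * j + 1) ^ 4 - 1 ∧ (32 * j + 1) ^ 4 ≤ 2 * (128 * k) ^ 2) := by decide +kernel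

/-- A8 -/
theorem plus_arith {a Q m : ℕ} (ha : 2 ≤ a) (hQ : 1 < Q)
    (h1 : m ∣ 2 ^ a * (∏ i ∈ range a, (2 ^ i + 1)) * (Q - 1)) (h2 : 2 ^ (2 * a + 1) ∣ m)
    (h4 : m ∣ Q ^ (2 ^ a) - 1) (h5 : Q ^ (2 ^ a) ≤ 2 * m ^ 2) : False := by
  have hPpos : 0 < ∏ i ∈ range a, (2 ^ i + 1) := prod_pos fun i _ => Nat.succ_pos _
  have hm : m ≤ 2 ^ a * (∏ i ∈ range a, (2 ^ i + 1)) * (Q - 1) :=
    Nat.le_of_dvd (by
      have : 0 < Q - 1 := by omega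
      positivity) h1
  rcases Nat.lt_or_ge a 3 with ha3 | ha3
  · obtain rfl : a = 2 := by omega
    have hP : ∏ i ∈ range 2, (2 ^ i + 1) = 6 := by decide
    rw [hP] at h1 hm
    have h1' : m ∣ 24 * (Q - 1) := h1
    have hm' : m ≤ 24 * (Q - 1) := hm
    have h5' : Q ^ 4 ≤ 2 * m ^ 2 := h5
    have hQ34 : Q < 34 := by
      by_contra hge
      have h6 : m ^ 2 ≤ (24 * Q) ^ 2 := Nat.pow_le_pow_left (hm'.trans (Nat.mul_le_mul_left _ (Nat.sub_le _ _))) 2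
      have h7 : 34 * 34 ≤ Q * Q := Nat.mul_le_mul (by omega) (by omega)
      nlinarith [Nat.mul_le_mul_right (Q * Q) h7, Nat.mul_pos (show 0 < Q by omega) (show 0 < Q by omega)]
    obtain ⟨k, rfl⟩ := h2
    have hk : k < 25 := by
      norm_num at hm'
      omega
    exact plus_two Q hQ34 k hk ⟨hQ, h1', h4, h5'⟩
  · -- `2 ^ (a + 1) ∣ Q - 1`
    have h6 : 2 ^ (2 * a + 1) ∣ 2 ^ a * (∏ i ∈ range a, (2 ^ i + 1)) * (Q - 1) := h2.trans h1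
    obtain ⟨b, rfl⟩ : ∃ b, a = b + 1 := ⟨a - 1, by omega⟩
    have hP : ∏ i ∈ range (b + 1), (2 ^ i + 1) = (∏ i ∈ range b, (2 ^ (i + 1) + 1)) * 2 := by
      rw [prod_range_succ']
      norm_num
    have hodd : Odd (∏ i ∈ range b, (2 ^ (i + 1) + 1)) := odd_prod _ fun i _ => odd_two_pow (Nat.succ_ne_zero i)
    have h7 : 2 ^ (b + 1) ∣ Q - 1 := by
      apply dvd_of_odd hodd
      rw [hP] at h6
      have h8 : 2 ^ (2 * (b + 1) + 1) = 2 ^ (b + 2) * 2 ^ (b + 1) := by rw [← pow_add]; congr 1; ring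
      have h9 : 2 ^ (b + 1) * ((∏ i ∈ range b, (2 ^ (i + 1) + 1)) * 2) * (Q - 1) =
          2 ^ (b + 2) * ((∏ i ∈ range b, (2 ^ (i + 1) + 1)) * (Q - 1)) := by
        rw [pow_succ 2 (b + 1)]
        ring
      rw [h8, h9] at h6
      exact Nat.dvd_of_mul_dvd_mul_left (by positivity) h6
    have h4Q : 4 ∣ Q - 1 := (pow_dvd_pow 2 (show 2 ≤ b + 1 by omega)).trans h7
    obtain ⟨o, ho, hoe⟩ := exists_odd h4Q hQ (b + 1)
    have h8 : 2 ^ (b + 2) ∣ Q - 1 := by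
      apply dvd_of_odd ho
      have h9 := h2.trans h4
      rw [hoe] at h9
      have h10 : 2 ^ (2 * (b + 1) + 1) = 2 ^ (b + 1) * 2 ^ (b + 2) := by rw [← pow_add]; congr 1; ring
      have h11 : (Q - 1) * 2 ^ (b + 1) * o = 2 ^ (b + 1) * (o * (Q - 1)) := by ring
      rw [h10, h11] at h9
      exact Nat.dvd_of_mul_dvd_mul_left (by positivity) h9
    have hQge : 2 ^ (b + 2) ≤ Q := (Nat.le_of_dvd (by omega) h8).trans (Nat.sub_le _ _)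
    -- the estimate
    have hle := le_prod (b + 1)
    have h9 : Q ^ (2 ^ (b + 1)) ≤ 2 ^ ((b + 1) * (b + 1) + 3 * (b + 1) + 1) * Q ^ 2 := by
      calc Q ^ (2 ^ (b + 1)) ≤ 2 * m ^ 2 := h5
        _ ≤ 2 * (2 ^ (b + 1) * (∏ i ∈ range (b + 1), (2 ^ i + 1)) * (Q - 1)) ^ 2 :=
            Nat.mul_le_mul_left _ (Nat.pow_le_pow_left hm 2)
        _ = 2 * (2 ^ (b + 1)) ^ 2 * (∏ i ∈ range (b + 1), (2 ^ i + 1)) ^ 2 * (Q - 1) ^ 2 := by ring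
        _ ≤ 2 * (2 ^ (b + 1)) ^ 2 * 2 ^ ((b + 1) * (b + 1 + 1)) * Q ^ 2 :=
            Nat.mul_le_mul (Nat.mul_le_mul_left _ hle) (Nat.pow_le_pow_left (Nat.sub_le _ _) 2)
        _ = 2 ^ ((b + 1) * (b + 1) + 3 * (b + 1) + 1) * Q ^ 2 := by
            rw [← pow_mul, ← pow_succ', ← pow_add]
            congr 2
            ring
    have h10 : 2 * (b + 1) + 2 ≤ 2 ^ (b + 1) := by
      clear h9 hle hQge h8 hoe h4Q h7 hodd hP h6 hPpos hm h1 h2 h4 h5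
      have hb : 2 ≤ b := by omega
      clear ha ha3
      induction b, hb using Nat.le_induction with
      | base => norm_num
      | succ b hb ih => rw [pow_succ]; omega
    have h11 : Q ^ (2 ^ (b + 1) - 2) ≤ 2 ^ ((b + 1) * (b + 1) + 3 * (b + 1) + 1) := by
      have h12 : Q ^ (2 ^ (b + 1)) = Q ^ (2 ^ (b + 1) - 2) * Q ^ 2 := by
        rw [← pow_add]
        congr 1
        omega
      rw [h12] at h9
      exact Nat.le_of_mul_le_mul_right h9 (by positivity)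
    have h12 : (2 ^ (b + 2)) ^ (2 ^ (b + 1) - 2) ≤ Q ^ (2 ^ (b + 1) - 2) := Nat.pow_le_pow_left hQge _
    have h13 := h12.trans h11
    rw [← pow_mul] at h13
    have h14 := (Nat.pow_le_pow_iff_right (by norm_num : 1 < 2)).1 h13
    have h15 : (b + 2) * (2 * (b + 1)) ≤ (b + 2) * (2 ^ (b + 1) - 2) := Nat.mul_le_mul_left _ (by omega)
    have h16 : 2 ≤ b := by omega
    nlinarith

/-- A8 -/
theorem minus_arith {a Q m : ℕ} (ha : 3 ≤ a) (hQ : 1 < Q) (h8 : 8 ∣ Q - 1)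
    (h1 : m ∣ 2 ^ (a - 1) * (∏ i ∈ Icc 2 a, (2 ^ i + 1)) * (Q - 1)) (h2 : 2 ^ (2 * a + 1) ∣ m)
    (h4 : m ∣ Q ^ (2 ^ (a - 1)) - 1) (h5 : Q ^ (2 ^ (a - 1)) ≤ 2 * m ^ 2) : False := by
  have hPpos : 0 < ∏ i ∈ Icc 2 a, (2 ^ i + 1) := prod_pos fun i _ => Nat.succ_pos _
  have hm : m ≤ 2 ^ (a - 1) * (∏ i ∈ Icc 2 a, (2 ^ i + 1)) * (Q - 1) :=
    Nat.le_of_dvd (by
      have : 0 < Q - 1 := by omega
      positivity) h1
  obtain ⟨b, rfl⟩ : ∃ b, a = b + 1 := ⟨a - 1, by omega⟩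
  rw [Nat.add_sub_cancel] at h1 h4 h5 hm
  have hodd : Odd (∏ i ∈ Icc 2 (b + 1), (2 ^ i + 1)) := odd_prod _ fun i hi => odd_two_pow (by
    have := (mem_Icc.1 hi).1
    omega)
  have h7 : 2 ^ (b + 3) ∣ Q - 1 := by
    apply dvd_of_odd hodd
    have h6 := h2.trans h1
    have h8 : 2 ^ (2 * (b + 1) + 1) = 2 ^ b * 2 ^ (b + 3) := by rw [← pow_add]; congr 1; ring
    rw [h8, mul_assoc] at h6
    exact Nat.dvd_of_mul_dvd_mul_left (by positivity) h6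
  rcases Nat.lt_or_ge b 3 with hb | hb
  · obtain rfl : b = 2 := by omega
    have hP : ∏ i ∈ Icc 2 (2 + 1), (2 ^ i + 1) = 45 := by decide
    rw [hP] at h1 hm
    have h1' : m ∣ 180 * (Q - 1) := h1
    have hm' : m ≤ 180 * (Q - 1) := hm
    have h5' : Q ^ 4 ≤ 2 * m ^ 2 := h5
    have hQ34 : Q < 255 := by
      by_contra hge
      have h6 : m ^ 2 ≤ (180 * Q) ^ 2 := Nat.pow_le_pow_left (hm'.trans (Nat.mul_le_mul_left _ (Nat.sub_le _ _))) 2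
      have h7 : 255 * 255 ≤ Q * Q := Nat.mul_le_mul (by omega) (by omega)
      nlinarith [Nat.mul_le_mul_right (Q * Q) h7, Nat.mul_pos (show 0 < Q by omega) (show 0 < Q by omega)]
    obtain ⟨k, rfl⟩ := h2
    obtain ⟨j, hj⟩ := h7
    have hj' : Q - 1 = 32 * j := hj
    have hQj : Q = 32 * j + 1 := by omega
    have hj8 : j < 8 := by omega
    have hk : k < 316 := by
      norm_num at hm'
      omega
    subst hQj
    exact minus_three j hj8 k hk ⟨by omega, by rw [← hj']; exact h1', h4, h5'⟩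
  · have hQge : 2 ^ (b + 3) ≤ Q := (Nat.le_of_dvd (by omega) h7).trans (Nat.sub_le _ _)
    have hle := le_prod' (b + 1) (by omega)
    have h9 : Q ^ (2 ^ b) * 2 ^ 6 ≤ 2 ^ ((b + 1) * (b + 1) + 5 * (b + 1) + 1) * Q ^ 2 := by
      calc Q ^ (2 ^ b) * 2 ^ 6 ≤ 2 * m ^ 2 * 2 ^ 6 := Nat.mul_le_mul_right _ h5
        _ ≤ 2 * (2 ^ b * (∏ i ∈ Icc 2 (b + 1), (2 ^ i + 1)) * (Q - 1)) ^ 2 * 2 ^ 6 :=
            Nat.mul_le_mul_right _ (Nat.mul_le_mul_left _ (Nat.pow_le_pow_left hm 2))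
        _ = 2 * (2 ^ b) ^ 2 * ((∏ i ∈ Icc 2 (b + 1), (2 ^ i + 1)) ^ 2 * 2 ^ 6) * (Q - 1) ^ 2 := by ring
        _ ≤ 2 * (2 ^ b) ^ 2 * 2 ^ ((b + 1 + 1) * (b + 1 + 2)) * Q ^ 2 :=
            Nat.mul_le_mul (Nat.mul_le_mul_left _ hle) (Nat.pow_le_pow_left (Nat.sub_le _ _) 2)
        _ = 2 ^ ((b + 1) * (b + 1) + 5 * (b + 1) + 1) * Q ^ 2 := by
            rw [← pow_mul, ← pow_succ', ← pow_add]
            congr 2
            ring
    have h10 : 2 * b + 2 ≤ 2 ^ b := by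
      clear h9 hle hQge h8 h7 hodd hPpos hm h1 h2 h4 h5 ha
      induction b, hb using Nat.le_induction with
      | base => norm_num
      | succ b hb ih => rw [pow_succ]; omega
    have h11 : Q ^ (2 ^ b - 2) * 2 ^ 6 ≤ 2 ^ ((b + 1) * (b + 1) + 5 * (b + 1) + 1) := by
      have h12 : Q ^ (2 ^ b) = Q ^ (2 ^ b - 2) * Q ^ 2 := by
        rw [← pow_add]
        congr 1
        omega
      rw [h12, mul_right_comm] at h9
      exact Nat.le_of_mul_le_mul_right h9 (by positivity)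
    have h12 : (2 ^ (b + 3)) ^ (2 ^ b - 2) ≤ Q ^ (2 ^ b - 2) := Nat.pow_le_pow_left hQge _
    have h13 := (Nat.mul_le_mul_right (2 ^ 6) h12).trans h11
    rw [← pow_mul, ← pow_add] at h13
    have h14 := (Nat.pow_le_pow_iff_right (by norm_num : 1 < 2)).1 h13
    have h15 : (b + 3) * (2 * b) ≤ (b + 3) * (2 ^ b - 2) := Nat.mul_le_mul_left _ (by omega)
    nlinarith

end Cfsg.Agent.H183.HT
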